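/-
The action with its checks.
-/
import Cfsg.Agent.Lib.Spor.Held.ActH.Orbits
import Cfsg.Agent.Lib.Spor.Held.CH.All
import Cfsg.Agent.Lib.Spor.Held.ActH.Range0
import Cfsg.Agent.Lib.Spor.Held.ActH.Range1
import Cfsg.Agent.Lib.Spor.Held.ActH.Range2
import Cfsg.Agent.Lib.Spor.Held.ActH.Range3
import Cfsg.Agent.Lib.Spor.Held.ActH.Range4

namespace CfsgLib.Spor.Held.ActH

open CfsgLib.Spor.TC

theorem valid : act.Valid relsG :=
  ⟨(((((((((((((range0.append _ range154).append _ range308).append _ range462).append _ range616).append _ range770).append _ range924).append _ range1078).append _ range1232).append _ range1386).append _ range1540).append _ range1694).append _ range1848).append _ range2002), by decide +kernel, by decide +kernel⟩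

end CfsgLib.Spor.Held.ActH
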